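import Cfsg.Agent.H109.S8.AutDeg
import Cfsg.Agent.H497.S8.SolvEng
import Cfsg.Agent.H360.LD.RowJ3
import Cfsg.Agent.H455.Ore.J3
import Cfsg.Agent.H489.OutSpor
import Cfsg.Agent.H315.Eight.RowJ3

/-!
# S4908: the degrees of `J₃` and of its automorphism group; the row SOLV (helper858)

* `deg_aut_le_two` : degrees of `Aut X` when `|Out X| ≤ 2`;
* `mem_aut_of_unique` : a degree of exactly one character of `X` is a degree of `Aut X`;
* `deg_sub` : a superset of the degrees of `J₃` and of `Aut J₃`;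
* `solv` : no solvable group has the degrees of `J₃` or of `Aut J₃`.
-/

set_option autoImplicit false
set_option maxRecDepth 100000

open Cfsg Subgroup Cfsg.Agent.Characters.Core Cfsg.Agent.H417.JThreeLP

namespace Cfsg.Agent.H858.S8

universe u v

section Gen

variable {X : Type v} [Group X] [Finite X]

/-- degrees of `Aut X`, `|Out X| ≤ 2` -/
theorem deg_aut_le_two (hc : Subgroup.center X = ⊥) (h2 : (MulAut.conj : X →* MulAut X).range.index ≤ 2) {e : ℕ}
    (he : e ∈ charDegrees (MulAut X)) :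
    e ∈ charDegrees X ∨ ∃ (χ χ' : IrrCharacter X) (f : ℕ), χ ≠ χ' ∧ (χ : X → ℂ) 1 = f ∧ (χ' : X → ℂ) 1 = f ∧
      e = 2 * f := by
  have hfin : Finite (MulAut X) := inferInstance
  have h0 : (MulAut.conj : X →* MulAut X).range.index ≠ 0 := Subgroup.index_ne_zero_of_finite
  have h3 : (MulAut.conj : X →* MulAut X).range.index = 1 ∨ (MulAut.conj : X →* MulAut X).range.index = 2 := by omega
  rcases h3 with h3 | h3
  · left
    rw [Subgroup.index_eq_one] at h3
    have hsurj : Function.Surjective (MulAut.conj : X →* MulAut X) := MonoidHom.range_eq_top.1 h3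
    have hinj : Function.Injective (MulAut.conj : X →* MulAut X) := by
      rw [injective_iff_map_eq_one]
      intro a ha
      rw [← Subgroup.mem_bot, ← hc, Subgroup.mem_center_iff]
      intro y
      have h1 : MulAut.conj a y = y := by rw [ha]; rfl
      rw [MulAut.conj_apply, mul_inv_eq_iff_eq_mul] at h1
      exact h1.symm
    let E : X ≃* MulAut X := MulEquiv.ofBijective (MulAut.conj : X →* MulAut X) ⟨hinj, hsurj⟩
    rwa [H424.DegTools.charDegrees_congr E]
  · exact H109.S8.deg_aut hc h3 he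

/-- a degree of `X` or its double is a degree of `Aut X`, `|Out X| ≤ 2` -/
theorem mem_aut_or (hc : Subgroup.center X = ⊥) (h2 : (MulAut.conj : X →* MulAut X).range.index ≤ 2) {e : ℕ}
    (he : e ∈ charDegrees X) : e ∈ charDegrees (MulAut X) ∨ 2 * e ∈ charDegrees (MulAut X) := by
  have hfin : Finite (MulAut X) := inferInstance
  have hn : (MulAut.conj : X →* MulAut X).range.Normal := by
    constructor
    rintro _ ⟨x, rfl⟩ g
    exact ⟨g x, by ext y; simp [MulAut.conj_apply]⟩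
  have hinj : Function.Injective (MulAut.conj : X →* MulAut X) := by
    rw [injective_iff_map_eq_one]
    intro a ha
    rw [← Subgroup.mem_bot, ← hc, Subgroup.mem_center_iff]
    intro y
    have h1 : MulAut.conj a y = y := by rw [ha]; rfl
    rw [MulAut.conj_apply, mul_inv_eq_iff_eq_mul] at h1
    exact h1.symm
  rw [H424.DegTools.charDegrees_congr (MonoidHom.ofInjective hinj)] at he
  obtain ⟨d, hd, ⟨k, rfl⟩, h3⟩ := H424.DegTools.clifford_up _ he
  have h4 : 0 < e * k := H424.DegTools.pos_of_mem hd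
  have h5 : 0 < e := Nat.pos_of_mul_pos_right h4
  rw [Nat.mul_div_cancel_left k h5] at h3
  have h6 : (MulAut.conj : X →* MulAut X).range.index ≠ 0 := Subgroup.index_ne_zero_of_finite
  have h7 : k ≤ 2 := (Nat.le_of_dvd (by omega) h3).trans h2
  have h8 : k ≠ 0 := by
    rintro rfl
    simp at h4
  have h9 : k = 1 ∨ k = 2 := by omega
  rcases h9 with rfl | rfl
  · left
    rwa [mul_one] at hd
  · right
    rwa [mul_comm] at hd

/-- a character degree attained once is a degree of `Aut X` -/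
theorem mem_aut_of_unique [IsSimpleGroup X] (hna : ¬ IsMulCommutative X) (h2 : Nat.card (Out X) ≤ 2)
    {χ : IrrCharacter X} (hu : ∀ ψ : IrrCharacter X, charDegree (ψ : X → ℂ) = charDegree (χ : X → ℂ) → ψ = χ) :
    charDegree (χ : X → ℂ) ∈ charDegrees (MulAut X) := by
  obtain ⟨ψ, hψ⟩ := Cfsg.Agent.H954.LD.ext_of_inv hna h2 (Cfsg.Agent.H954.LD.inv_of_unique hu)
  refine ⟨ψ, ?_⟩
  have h1 := hψ 1
  rw [map_one] at h1
  unfold charDegree
  rw [h1]

end Gen

section J3

/-- the heads of the rows of `J₃` other than 18 -/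
def A1 : List ℕ := [1, 85, 152, 153, 170, 171, 323, 324, 408, 646, 816, 969, 1140, 1215, 1292, 1377, 1530, 1615, 1920,
  1938, 2176, 2432, 2584, 2736, 2754, 2907, 3060, 3078, 3876]

/-- a superset of the degrees of `J₃` and `Aut J₃` -/
def Adm : List ℕ := [1, 85, 152, 153, 170, 171, 304, 306, 323, 324, 340, 342, 408, 646, 816, 969, 1140, 1215, 1292,
  1377, 1530, 1615, 1632, 1920, 1938, 2176, 2280, 2430, 2432, 2584, 2736, 2754, 2907, 3060, 3078, 3840, 3876, 4352,
  4864, 5168, 5472, 5508, 5814, 6120, 6156, 7752]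

theorem heads : ∀ l ∈ vecs, l.getD 0 0 = 18 ∨ ∃ n ∈ A1, l.getD 0 0 = (n : ℤ) := by decide +kernel

theorem adm_of : ∀ f ∈ A1, f ∈ Adm ∧ (f = 1 ∨ f = 324 ∨ f = 1615 ∨ 2 * f ∈ Adm) := by decide +kernel

theorem check1 : H497.S8.chk 7752 [2, 3, 5, 17, 19] Adm [324, 1615, 1920] = true := by decide +kernel

theorem check2 : H497.S8.chk 7752 [2, 3, 5, 17, 19] Adm [324, 1615, 3840] = true := by decide +kernel

variable {X : Type v} [Group X] [Finite X]

/-- the three degrees attained exactly once -/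
theorem facts (h : Spor.IsoJ3 X) :
    (∀ d ∈ charDegrees X, d ∈ A1) ∧ 1920 ∈ charDegrees X ∧ ∀ d : ℕ, d = 1 ∨ d = 324 ∨ d = 1615 →
      ∃ χ : IrrCharacter X, charDegree (χ : X → ℂ) = d ∧
        ∀ ψ : IrrCharacter X, charDegree (ψ : X → ℂ) = d → ψ = χ := by
  have := finite_irr (G := X)
  let _ := Fintype.ofFinite (IrrCharacter X)
  obtain ⟨V, hdg, hV⟩ := Cfsg.Agent.H417.JThreeDeg.hyp h
  refine ⟨?_, ?_, ?_⟩
  · rintro d ⟨χ, rfl⟩
    obtain ⟨l, hl, hv⟩ := hV.mem χ
    have h1 : V χ 0 = l.getD 0 0 := by rw [hv]; rfl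
    have h2 := hdg χ
    have h3 := Cfsg.Agent.H455.Ore.J3.ne_18 hV χ
    rcases heads l hl with h4 | ⟨n, hn, h4⟩
    · exact absurd (h1.trans h4) h3
    · have h5 : ((charDegree (χ : X → ℂ) : ℕ) : ℤ) = (n : ℤ) := by
        rw [← h4, ← h1]
        exact h2.symm
      have h6 : charDegree (χ : X → ℂ) = n := by exact_mod_cast h5
      rw [h6]
      exact hn
  · obtain ⟨χ, h1⟩ := Cfsg.Agent.H315.Eight.RowJ3.deg_1920 hV
    refine ⟨χ, ?_⟩
    have h3 : ((charDegree (χ : X → ℂ) : ℕ) : ℤ) = ((1920 : ℕ) : ℤ) := by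
      rw [hdg] at h1
      exact h1
    exact_mod_cast h3
  · have key : ∀ d : ℕ, (∃ χ, V χ 0 = (d : ℤ) ∧ ∀ ψ, V ψ 0 = (d : ℤ) → ψ = χ) →
        ∃ χ : IrrCharacter X, charDegree (χ : X → ℂ) = d ∧
          ∀ ψ : IrrCharacter X, charDegree (ψ : X → ℂ) = d → ψ = χ := by
      rintro d ⟨χ, h1, h2⟩
      refine ⟨χ, ?_, fun ψ hψ => h2 ψ ?_⟩
      · have h3 : ((charDegree (χ : X → ℂ) : ℕ) : ℤ) = (d : ℤ) := by
          rw [← h1]
          exact (hdg χ).symm
        exact_mod_cast h3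
      · rw [hdg ψ, ← hψ]
        rfl
    rintro d (rfl | rfl | rfl)
    · refine key 1 ?_
      have h1 : num V (Cfsg.Agent.H417.JThreeLP.degIs 1) = 1 := hV.n1
      exact Cfsg.Agent.H360.LD.exists_unique (d := 1) (by rw [h1]; norm_num) (by rw [h1]; norm_num)
    · exact key 324 (Cfsg.Agent.H360.LD.exists_unique (Cfsg.Agent.H360.LD.a0 hV) (Cfsg.Agent.H360.LD.a2 hV))
    · exact key 1615 (Cfsg.Agent.H360.LD.exists_unique (Cfsg.Agent.H360.LD.b0 hV) (Cfsg.Agent.H360.LD.b2 hV))

omit [Finite X] in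
theorem not_comm (h : Spor.IsoJ3 X) : ¬ IsMulCommutative X := by
  have hb := Cfsg.Agent.H898.J3Cent.base h
  have hs := hb.1
  intro hc
  have h1 := (Group.is_simple_iff_prime_card (α := X)).1 hs
  rw [hb.2.1] at h1
  norm_num at h1

omit [Finite X] in
theorem out_le (h : Spor.IsoJ3 X) : Nat.card (Out X) ≤ 2 :=
  Cfsg.Agent.H489.card_out_sporadic (by simp only [IsSporadicGroup, h, true_or, or_true])

omit [Finite X] in
theorem center_eq_bot (h : Spor.IsoJ3 X) : Subgroup.center X = ⊥ := by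
  have hs := (Cfsg.Agent.H898.J3Cent.base h).1
  have hn : (Subgroup.center X).Normal := inferInstance
  rcases hn.eq_bot_or_eq_top with h1 | h1
  · exact h1
  · exfalso
    exact not_comm h ⟨⟨fun a b => ((Subgroup.mem_center_iff.1 (by rw [h1]; trivial : b ∈ Subgroup.center X)) a)⟩⟩

/-- a superset of the degrees -/
theorem deg_sub (h : Spor.IsoJ3 X) {D : Set ℕ} (hD : H704.S8.Deg 2 X D) : ∀ d ∈ D, d ∈ Adm := by
  have hs := (Cfsg.Agent.H898.J3Cent.base h).1
  obtain ⟨h1, -, h2⟩ := facts h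
  rcases hD with rfl | ⟨-, rfl⟩
  · exact fun d hd => (adm_of d (h1 d hd)).1
  · intro d hd
    rcases deg_aut_le_two (center_eq_bot h) (out_le h) hd with
      h3 | ⟨χ, χ', f, hne, h4, h5, rfl⟩
    · exact (adm_of d (h1 d h3)).1
    · have h6 : charDegree (χ : X → ℂ) = f := by
        have h7 := Cfsg.Agent.M23Order.Base.dg_eq χ
        rw [h4] at h7
        exact_mod_cast h7.symm
      have h6' : charDegree (χ' : X → ℂ) = f := by
        have h7 := Cfsg.Agent.M23Order.Base.dg_eq χ'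
        rw [h5] at h7
        exact_mod_cast h7.symm
      have h8 : f ∈ A1 := h1 f ⟨χ, h6⟩
      have huniq : f = 1 ∨ f = 324 ∨ f = 1615 → False := by
        intro h9
        obtain ⟨η, -, h10⟩ := h2 f h9
        exact hne ((h10 χ h6).trans (h10 χ' h6').symm)
      rcases (adm_of f h8).2 with h9 | h9 | h9 | h9
      · exact (huniq (Or.inl h9)).elim
      · exact (huniq (Or.inr (Or.inl h9))).elim
      · exact (huniq (Or.inr (Or.inr h9))).elim
      · exact h9

/-- 324 and 1615 are degrees of `J₃` and of `Aut J₃` -/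
theorem mem_deg (h : Spor.IsoJ3 X) {D : Set ℕ} (hD : H704.S8.Deg 2 X D) : ∀ n ∈ [324, 1615], n ∈ D := by
  have hs := (Cfsg.Agent.H898.J3Cent.base h).1
  obtain ⟨-, -, h2⟩ := facts h
  intro n hn
  simp only [List.mem_cons, List.not_mem_nil, or_false] at hn
  obtain ⟨χ, h3, h4⟩ := h2 n (Or.inr hn)
  rcases hD with rfl | ⟨-, rfl⟩
  · exact ⟨χ, h3⟩
  · have h5 := mem_aut_of_unique (not_comm h) (out_le h) (χ := χ) (fun ψ hψ => h4 ψ (hψ.trans h3))
    rwa [h3] at h5

theorem primes : ∀ p ∈ [2, 3, 5, 17, 19], p.Prime := by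
  intro p hp
  simp only [List.mem_cons, List.not_mem_nil, or_false] at hp
  rcases hp with rfl | rfl | rfl | rfl | rfl <;> norm_num

/-- **SOLV for `J₃`.** -/
theorem solv (h : Spor.IsoJ3 X) (D : Set ℕ) (hD : H704.S8.Deg 2 X D) : H704.S8.Solv.{u} D := by
  have hm := mem_deg h hD
  have key : 1920 ∈ D ∨ 3840 ∈ D := by
    have h1 := (facts h).2.1
    rcases hD with rfl | ⟨-, rfl⟩
    · exact Or.inl h1
    · have hs := (Cfsg.Agent.H898.J3Cent.base h).1
      exact mem_aut_or (center_eq_bot h) (out_le h) h1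
  have hsub : ∀ k : ℕ, k ∈ D → ∀ n ∈ [324, 1615, k], n ∈ D := by
    intro k hk n hn
    simp only [List.mem_cons, List.not_mem_nil, or_false] at hn hm
    rcases hn with rfl | rfl | rfl
    · exact hm _ (Or.inl rfl)
    · exact hm _ (Or.inr rfl)
    · exact hk
  intro G _ _ hs hG
  rcases key with hk | hk
  · exact H497.S8.solv_of_chk 7752 [2, 3, 5, 17, 19] Adm [324, 1615, 1920] primes (deg_sub h hD) (hsub _ hk) check1 hs hG
  · exact H497.S8.solv_of_chk 7752 [2, 3, 5, 17, 19] Adm [324, 1615, 3840] primes (deg_sub h hD) (hsub _ hk) check2 hs hG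

end J3

end Cfsg.Agent.H858.S8
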