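import Cfsg.Agent.H858.S8.TwoJ2Six
import Cfsg.Agent.H409.S8.JTwoCore
import Cfsg.Agent.H206.S8.C3Tools
import Cfsg.Agent.H109.S8.CovCore
import Cfsg.Agent.H242.S8.Twin
import Cfsg.Agent.H264.CoverOver
import Cfsg.Agent.H1.TJ2
import Cfsg.Agent.H529.S8.Cov
import Cfsg.Agent.H489.OutSpor

/-!
# S4908, `J₂`: the double cover (helper858)

`coverAt` : `CoverAt 2 2 D X` for `X = J₂`. The double cover has a faithful irreducible character of degree 2, 4 or 6
(`TwoJ2Six`); if `48` is a degree of `J₂` the column of the elements of order 7 of the double cover is used for `i = 2`.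
-/

set_option autoImplicit false
set_option maxRecDepth 100000

open Cfsg Subgroup Cfsg.Agent.Characters.Core

namespace Cfsg.Agent.H858.S8.J2Cov

universe u v

section Hundred

open Cfsg.Agent.SporadicA.J2Hundred Cfsg.Agent.J2.HundredGens Cfsg.Agent.H409.S8.JTwo Cfsg.Agent.H121.OZ.JTwo
  Cfsg.Agent.H121.OZ.JTwoCls Cfsg.Agent.H1.J2Cls Cfsg.Agent.H1 Cfsg.Agent.H1.J2Cover

/-- if 48 is a degree then the degrees prime to 7 are known -/
theorem degs_of_48 {χ : IrrCharacter G} (h : charDegree (χ : G → ℂ) = 48) (η : IrrCharacter G) :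
    7 ∣ charDegree (η : G → ℂ) ∨ charDegree (η : G → ℂ) = 1 ∨ charDegree (η : G → ℂ) = 36 ∨
      charDegree (η : G → ℂ) = 48 ∨ charDegree (η : G → ℂ) = 90 ∨ charDegree (η : G → ℂ) = 160 ∨
      charDegree (η : G → ℂ) = 225 := by
  classical
  have := Characters.Core.finite_irr (G := G)
  have := Fintype.ofFinite (IrrCharacter G)
  obtain ⟨c, h7, hs, h0⟩ := col
  obtain ⟨t, ht⟩ := five
  have hinj : Function.Injective t := by
    intro i j hij
    have h1 := ht i
    rw [hij, ht j] at h1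
    revert h1
    fin_cases i <;> fin_cases j <;> simp
  have hc : ∀ i, c (t i) = (![1, 1, -1, -1, 1] : Fin 5 → ℤ) i := by
    intro i
    have h1 := h7 (t i)
    have h2 := sixth h7 hs (t i)
    rw [ht i] at h1
    fin_cases i <;> simp at h1 h2 ⊢ <;> omega
  have hcχ : c χ = -1 := by
    have h1 := h7 χ
    have h2 := sixth h7 hs χ
    rw [h] at h1
    omega
  have hmem : χ ∉ Finset.univ.image t := by
    intro h1
    obtain ⟨i, -, hi⟩ := Finset.mem_image.1 h1
    have h2 := ht i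
    rw [hi, h] at h2
    revert h2
    fin_cases i <;> simp
  set s := insert χ (Finset.univ.image t) with hsdef
  have e1 : ∑ ψ ∈ s, c ψ * c ψ = 6 := by
    rw [hsdef, Finset.sum_insert hmem, Finset.sum_image fun i _ j _ h => hinj h]
    simp only [hc, hcχ]
    simp [Fin.sum_univ_succ]
  have e2 : ∑ ψ ∈ s, (charDegree (ψ : G → ℂ) : ℤ) * c ψ = -36 := by
    rw [hsdef, Finset.sum_insert hmem, Finset.sum_image fun i _ j _ h => hinj h]
    simp only [hc, hcχ, ht, h]
    simp [Fin.sum_univ_succ]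
  have f1 : ∑ ψ ∈ sᶜ, c ψ * c ψ = 1 := by
    have := Finset.sum_add_sum_compl s (fun ψ => c ψ * c ψ)
    rw [e1, hs] at this
    linarith
  have f2 : ∑ ψ ∈ sᶜ, (charDegree (ψ : G → ℂ) : ℤ) * c ψ = 36 := by
    have := Finset.sum_add_sum_compl s (fun ψ : IrrCharacter G => (charDegree (ψ : G → ℂ) : ℤ) * c ψ)
    rw [e2, h0] at this
    linarith
  by_cases hη : η ∈ s
  · right
    rw [hsdef, Finset.mem_insert] at hη
    rcases hη with rfl | hη
    · omega
    · obtain ⟨i, -, rfl⟩ := Finset.mem_image.1 hη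
      have h1 := ht i
      fin_cases i <;> simp at h1 ⊢ <;> omega
  · have hη' : η ∈ sᶜ := Finset.mem_compl.2 hη
    by_cases hz : c η = 0
    · left
      have h1 := h7 η
      rw [hz, sub_zero] at h1
      exact_mod_cast h1
    · have hoth : ∀ ψ ∈ sᶜ, ψ ≠ η → c ψ = 0 := by
        intro ψ hψ hne
        by_contra h1
        have h2 : c η * c η + c ψ * c ψ ≤ 1 := by
          rw [← f1, ← Finset.sum_pair hne.symm (f := fun ψ => c ψ * c ψ)]
          refine Finset.sum_le_sum_of_subset_of_nonneg ?_ fun ψ _ _ => mul_self_nonneg _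
          intro a ha
          rcases Finset.mem_insert.1 ha with rfl | ha
          · exact hη'
          · rw [Finset.mem_singleton.1 ha]; exact hψ
        have h3 := mul_self_pos.2 h1
        have h4 := mul_self_pos.2 hz
        linarith
      have g2 : (charDegree (η : G → ℂ) : ℤ) * c η = 36 := by
        rw [← f2]
        symm
        apply Finset.sum_eq_single_of_mem η hη'
        intro ψ hψ hne
        rw [hoth ψ hψ hne, mul_zero]
      right
      right
      left
      rcases sixth h7 hs η with h2 | h2 | h2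
      · exact absurd h2 hz
      · rw [h2] at g2; omega
      · rw [h2] at g2; omega

theorem card_classes_le : Nat.card (ConjClasses G) ≤ 21 := by
  have h : Function.Surjective fun i : Fin 21 => ConjClasses.mk (gw (rL i)) := by
    rintro ⟨g⟩
    obtain ⟨a, ha, -, -⟩ := type g
    refine ⟨a, ?_⟩
    show ConjClasses.mk (gw (rL a)) = ConjClasses.mk g
    rw [ConjClasses.mk_eq_mk_iff_isConj]
    exact ha
  have h2 := Nat.card_le_card_of_surjective _ h
  rwa [Nat.card_eq_fintype_card (α := Fin 21), Fintype.card_fin] at h2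

theorem seven_G : ∃ y : G, orderOf y = 7 ∧ (∀ i : ℕ, ¬ 7 ∣ i → IsConj y (y ^ i)) ∧
    Nat.card (centralizer ({y} : Set G)) = 7 := by
  refine ⟨gw (rL (18 : Fin 21)), o7, fun i hi => ?_, c7⟩
  refine conj_of_order 18 (by decide +kernel) (rep 18).1 ?_
  rw [Nat.Coprime.orderOf_pow, (rep 18).1]
  rw [(rep 18).1]
  have h1 : ov ((18 : Fin 21) : ℕ) = 7 := by decide +kernel
  rw [h1]
  exact (Nat.Prime.coprime_iff_not_dvd (by norm_num)).2 hi

end Hundred

variable {X : Type v} [Group X]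

theorem iso_G (hX : Spor.IsoJ2 X) : Nonempty (X ≃* Cfsg.Agent.SporadicA.J2Hundred.G) := by
  obtain ⟨e⟩ := hX
  obtain ⟨f⟩ := Cfsg.Agent.J2.HundredGens.J2_iso Cfsg.Agent.S1619.result.2.2.2
  exact ⟨e.trans f⟩

theorem seven_X (hX : Spor.IsoJ2 X) : ∃ y : X, orderOf y = 7 ∧ (∀ i : ℕ, ¬ 7 ∣ i → IsConj y (y ^ i)) ∧
    Nat.card (centralizer ({y} : Set X)) = 7 := by
  obtain ⟨e⟩ := iso_G hX
  obtain ⟨y, h1, h2, h3⟩ := seven_G
  refine ⟨e.symm y, by rw [MulEquiv.orderOf_eq]; exact h1, fun i hi => ?_, ?_⟩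
  · rw [← map_pow]
    exact MonoidHom.map_isConj e.symm.toMonoidHom (h2 i hi)
  · rw [← h3]
    refine Nat.card_congr ⟨fun g => ⟨e g, ?_⟩, fun g => ⟨e.symm g, ?_⟩, ?_, ?_⟩
    · have hg := mem_centralizer_singleton_iff.1 g.2
      rw [mem_centralizer_singleton_iff]
      have := congrArg e hg
      rwa [map_mul, map_mul, MulEquiv.apply_symm_apply] at this
    · have hg := mem_centralizer_singleton_iff.1 g.2
      rw [mem_centralizer_singleton_iff, ← map_mul, hg, map_mul]
    · intro g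
      apply Subtype.ext
      exact e.symm_apply_apply g
    · intro g
      apply Subtype.ext
      exact e.apply_symm_apply g


section Small

open Cfsg.Spor Cfsg.Agent.J2.Group

theorem finite_twoJ2 : Finite twoJ2 :=
  Nat.finite_of_card_ne_zero (by rw [Cfsg.Agent.S1619.result.1]; norm_num)

theorem perfect_twoJ2 : commutator twoJ2 = ⊤ := by
  have h1 : (commutator Cfsg.Agent.J2.Refl.W).map equivTwoJ2.toMonoidHom = commutator twoJ2 := by
    rw [_root_.commutator_def, _root_.commutator_def, Subgroup.map_commutator,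
      Subgroup.map_top_of_surjective _ equivTwoJ2.surjective]
  rw [← h1, Cfsg.Agent.H1.TJ2.perfect_W, Subgroup.map_top_of_surjective _ equivTwoJ2.surjective]

variable {N : Type u} [Group N] [Finite N]

omit [Finite N] in
/-- a perfect central extension of `J₂` by a group of order two is `2.J₂` -/
theorem exists_iso (V : Subgroup N) [V.Normal] (hV : Nat.card V = 2) (hc : V ≤ center N) (hp : commutator N = ⊤)
    (e : (N ⧸ V) ≃* J2) : ∃ φ : twoJ2 ≃* N, ∀ z ∈ center twoJ2, φ z ∈ V := by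
  have := finite_twoJ2
  have hfin : Finite J2 := Cfsg.Agent.H1.TJ2.finite_J2
  have hperf : commutator J2 = ⊤ := by
    have h1 : (commutator twoJ2).map (QuotientGroup.mk' (center twoJ2)) = commutator J2 := by
      rw [_root_.commutator_def, _root_.commutator_def, Subgroup.map_commutator,
        Subgroup.map_top_of_surjective _ (QuotientGroup.mk'_surjective _)]
    rw [← h1, perfect_twoJ2, Subgroup.map_top_of_surjective _ (QuotientGroup.mk'_surjective _)]
  let π : N →* J2 := e.toMonoidHom.comp (QuotientGroup.mk' V)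
  have hπ : Function.Surjective π := e.surjective.comp (QuotientGroup.mk'_surjective V)
  have hker : π.ker = V := by
    ext x
    rw [MonoidHom.mem_ker]
    show e (QuotientGroup.mk' V x) = 1 ↔ _
    rw [MulEquiv.map_eq_one_iff]
    exact QuotientGroup.eq_one_iff x
  have hst : IsStemExtension π := ⟨hπ, by rw [hker]; exact hc, by rw [hp]; exact le_top⟩
  let σ : twoJ2 →* J2 := QuotientGroup.mk' (center twoJ2)
  have hσ : IsStemExtension σ := by
    refine ⟨QuotientGroup.mk'_surjective _, ?_, by rw [perfect_twoJ2]; exact le_top⟩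
    rw [QuotientGroup.ker_mk']
  obtain ⟨φ, h1, h2⟩ := Cfsg.Agent.H264.CoverOver.exists_cover hperf (A := Multiplicative (ZMod 2))
    Cfsg.Agent.S2040.result σ hσ (by
      rw [QuotientGroup.ker_mk', Cfsg.Agent.J2.Center.card_center, Nat.card_congr (Multiplicative.toAdd (α := ZMod 2)),
        Nat.card_zmod]) π hst
  have hcN : Nat.card N = Nat.card twoJ2 := by
    rw [← Subgroup.card_mul_index V, ← Subgroup.card_mul_index (center twoJ2), hV, Cfsg.Agent.J2.Center.card_center]
    congr 1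
    exact Nat.card_congr e.toEquiv
  have hb : Function.Bijective φ := (Nat.bijective_iff_surjective_and_card φ).2 ⟨h1, hcN.symm⟩
  refine ⟨MulEquiv.ofBijective φ hb, fun z hz => ?_⟩
  rw [← hker, MonoidHom.mem_ker]
  show π (φ z) = 1
  rw [h2]
  exact (QuotientGroup.eq_one_iff z).2 hz

/-- **a faithful character of degree 2, 4 or 6** -/
theorem exists_small (V : Subgroup N) [V.Normal] (hV : Nat.card V = 2) (hc : V ≤ center N) (hp : commutator N = ⊤)
    (e : (N ⧸ V) ≃* J2) : ∃ (χ : N → ℂ) (d : ℕ), IsIrrCharacter N χ ∧ (∃ v ∈ V, χ v ≠ χ 1) ∧ χ 1 = d ∧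
      (d = 2 ∨ d = 4 ∨ d = 6) := by
  have := finite_twoJ2
  obtain ⟨φ, hφ⟩ := exists_iso V hV hc hp e
  obtain ⟨z, hz, η, hη, d, hd, hd6⟩ := TwoJ2.exists_small
  have hirr : IsIrrCharacter N ((η : twoJ2 → ℂ) ∘ φ.symm.toMonoidHom) :=
    isIrr_comp φ.symm.toMonoidHom φ.symm.surjective η.2
  have h1 : ((η : twoJ2 → ℂ) ∘ φ.symm.toMonoidHom) (φ z) = (η : twoJ2 → ℂ) z :=
    congrArg (η : twoJ2 → ℂ) (φ.symm_apply_apply z)
  have h2 : ((η : twoJ2 → ℂ) ∘ φ.symm.toMonoidHom) 1 = (η : twoJ2 → ℂ) 1 :=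
    congrArg (η : twoJ2 → ℂ) (map_one φ.symm)
  have hne : ((η : twoJ2 → ℂ) ∘ φ.symm.toMonoidHom) (φ z) ≠ ((η : twoJ2 → ℂ) ∘ φ.symm.toMonoidHom) 1 := by
    rw [h1, h2]; exact hη
  refine ⟨_, d, hirr, ⟨φ z, hφ z hz, hne⟩, h2.trans hd, ?_⟩
  -- the degree is even
  obtain ⟨l, hl⟩ := Cfsg.Agent.H388.AN.exists_lin hc hirr
  have h3 := hl ⟨φ z, hφ z hz⟩
  have h4 : (l ⟨φ z, hφ z hz⟩) ≠ 1 := by
    intro h5
    rw [h5, Units.val_one, mul_one] at h3
    exact hne h3
  have h5 : (l ⟨φ z, hφ z hz⟩) ^ 2 = 1 := by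
    rw [← map_pow, ← hV, pow_card_eq_one', map_one]
  have h6 : orderOf (l ⟨φ z, hφ z hz⟩) = 2 := orderOf_eq_prime h5 h4
  have h7 := Cfsg.Agent.H388.AN.pow_deg_eq_one hp hirr (h2.trans hd) (hc (hφ z hz)) h3
  have h8 : 2 ∣ d := by
    rw [← h6]
    apply orderOf_dvd_of_pow_eq_one
    apply Units.ext
    rw [Units.val_pow_eq_pow_val, Units.val_one]
    exact h7
  have h9 : d ≠ 0 := by
    rintro rfl
    exact isIrr_apply_one_ne_zero η.2 (by rw [hd]; simp)
  omega

end Small

section Col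

variable {N : Type u} [Group N] [Finite N]

/-- the degrees over `V` and the column of the elements of order 7 -/
theorem column (hX : Spor.IsoJ2 X) (V : Subgroup N) [V.Normal] (hV : Nat.card V = 2) (hc : V ≤ center N)
    (hp : commutator N = ⊤) (e : (N ⧸ V) ≃* X)
    (hbad : ∀ (χ : N → ℂ) (d : ℕ), IsIrrCharacter N χ → (∃ v ∈ V, χ v ≠ χ 1) → χ 1 = d → 2 ∣ d → ∀ w : ℤ,
      (7 : ℤ) ∣ (d : ℤ) - w → w ^ 2 ≤ 7 → w ≤ 0) : False := by
  classical
  have := finite_irr (G := N)
  let _ := Fintype.ofFinite (IrrCharacter N)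
  obtain ⟨y, hy1, hy2, hy3⟩ := seven_X hX
  let π : N →* X := e.toMonoidHom.comp (QuotientGroup.mk' V)
  have hπ : Function.Surjective π := e.surjective.comp (QuotientGroup.mk'_surjective V)
  have hker : π.ker = V := by
    ext x
    rw [MonoidHom.mem_ker]
    show e (QuotientGroup.mk' V x) = 1 ↔ _
    rw [MulEquiv.map_eq_one_iff]
    exact QuotientGroup.eq_one_iff x
  obtain ⟨x, -, hx1, hx2, hx3⟩ := Cfsg.Agent.H206.S8.lift hπ (r := 2) (p := 7) Nat.prime_two (by norm_num) (by norm_num)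
    (by rw [hker]; exact hV) (by rw [hker]; exact hc) hy1 hy2
  rw [hy3] at hx3
  obtain ⟨c, hci⟩ := Cfsg.Agent.H206.S8.exists_inj Nat.prime_two hV hc
  obtain ⟨w, hw1, hw2, hw3⟩ := Cfsg.Agent.H206.S8.col hp (V := V) (r := 2) (p := 7) (m := 7) Nat.prime_two (by norm_num)
    (by norm_num) hV hc hci hx1 hx2 hx3
  have hle : ∀ χ ∈ Cfsg.Agent.H382.RIM.ov V c, w χ ≤ 0 := by
    intro χ hχ
    obtain ⟨h1, h2⟩ := hw1 χ hχ
    refine hbad χ (charDegree (χ : N → ℂ)) χ.2 ?_ (Blocks.Basic.irr_one_eq_charDegree χ.2) h1 (w χ) h2 ?_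
    · have hnt : Nontrivial V := Finite.one_lt_card_iff_nontrivial.1 (by rw [hV]; norm_num)
      obtain ⟨v, hv⟩ := exists_ne (1 : V)
      refine ⟨v, v.2, fun h3 => hv ?_⟩
      have h4 := Cfsg.Agent.H382.RIM.mem_ov.1 hχ 1 v
      rw [one_mul, h3] at h4
      have h5 : (χ : N → ℂ) 1 * 1 = (χ : N → ℂ) 1 * (c v : ℂ) := by rw [mul_one]; exact h4
      have h6 := mul_left_cancel₀ (isIrr_apply_one_ne_zero χ.2) h5
      apply hci
      rw [map_one]
      exact Units.ext h6.symm
    · have h3 : w χ ^ 2 ≤ ∑ ψ ∈ Cfsg.Agent.H382.RIM.ov V c, w ψ ^ 2 :=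
        Finset.single_le_sum (f := fun ψ => w ψ ^ 2) (fun _ _ => sq_nonneg _) hχ
      rw [hw2] at h3
      exact_mod_cast h3
  have hpos : ∀ χ : IrrCharacter N, 0 < (charDegree (χ : N → ℂ) : ℤ) := by
    intro χ
    have h1 : charDegree (χ : N → ℂ) ≠ 0 := by
      intro h0
      have h2 := Blocks.Basic.irr_one_eq_charDegree χ.2
      rw [h0, Nat.cast_zero] at h2
      exact isIrr_apply_one_ne_zero χ.2 h2
    omega
  have hz : ∀ χ ∈ Cfsg.Agent.H382.RIM.ov V c, w χ * charDegree (χ : N → ℂ) = 0 := by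
    refine (Finset.sum_eq_zero_iff_of_nonpos fun χ hχ => ?_).1 hw3
    exact mul_nonpos_of_nonpos_of_nonneg (hle χ hχ) (hpos χ).le
  have h0 : ∑ χ ∈ Cfsg.Agent.H382.RIM.ov V c, w χ ^ 2 = 0 := by
    refine Finset.sum_eq_zero fun χ hχ => ?_
    have h1 : w χ = 0 := (mul_eq_zero.1 (hz χ hχ)).resolve_right (hpos χ).ne'
    rw [h1]
    norm_num
  rw [h0] at hw2
  norm_num at hw2

end Col

section Final

open Cfsg.Agent.H704.S8 Cfsg.Agent.H409.S8.JTwo

theorem simple_of (hX : Spor.IsoJ2 X) : IsSimpleGroup X := by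
  obtain ⟨e⟩ := hX
  have h := Cfsg.Agent.J2.Simple.simple_quotient
  exact (MulEquiv.isSimpleGroup_congr (e.trans Cfsg.Agent.J2.Group.equivJ2.symm)).2 h

theorem not_comm (hX : Spor.IsoJ2 X) : ¬ IsMulCommutative X := by
  have hs := simple_of hX
  intro hc
  have h1 := (Group.is_simple_iff_prime_card (α := X)).1 hs
  rw [Cfsg.Agent.NotCT.Orders.j2 hX] at h1
  norm_num at h1

theorem out_le (hX : Spor.IsoJ2 X) : (MulAut.conj : X →* MulAut X).range.index ≤ 2 :=
  Cfsg.Agent.H489.card_out_sporadic (K := X) (by simp only [IsSporadicGroup, hX, true_or, or_true])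

theorem mod_seven_X (hX : Spor.IsoJ2 X) {d : ℕ} (hd : d ∈ charDegrees X) : d % 7 = 0 ∨ d % 7 = 1 ∨ d % 7 = 6 := by
  rw [cd_eq hX] at hd
  obtain ⟨χ, rfl⟩ := hd
  exact mod_seven χ

/-- small numbers are no degrees -/
theorem small_not_mem (hX : Spor.IsoJ2 X) {D : Set ℕ} (hD : Deg 2 X D) {d : ℕ}
    (hd : d ∈ [2, 4, 6, 8, 12, 16, 24, 32]) : d ∉ D := by
  have hcd := Cfsg.Agent.NotCT.Orders.j2 hX
  have hfin : Finite X := Nat.finite_of_card_ne_zero (by rw [hcd]; norm_num)
  obtain ⟨-, h2⟩ := Cfsg.Agent.H242.S8.deg_two' (simple_of hX) (not_comm hX) (out_le hX) hD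
  have n16 : (16 : ℕ) ∉ charDegrees X := fun h => no_pp hX _ h ⟨2, 4, Nat.prime_iff.1 Nat.prime_two, by norm_num, by norm_num⟩
  have n32 : (32 : ℕ) ∉ charDegrees X := fun h => no_pp hX _ h ⟨2, 5, Nat.prime_iff.1 Nat.prime_two, by norm_num, by norm_num⟩
  have n24 : (24 : ℕ) ∉ charDegrees X := fun h => by
    have := mod_seven_X hX h
    omega
  intro h
  have hlt : 2 ≤ d := by
    simp only [List.mem_cons, List.not_mem_nil, or_false] at hd
    omega
  rcases h2 d h with h3 | ⟨n, h3, h4, h5⟩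
  · have h6 := ge_14 hX d h3 hlt
    simp only [List.mem_cons, List.not_mem_nil, or_false] at hd
    have h7 : d = 16 ∨ d = 24 ∨ d = 32 := by omega
    rcases h7 with rfl | rfl | rfl
    · exact n16 h3
    · exact n24 h3
    · exact n32 h3
  · have h0 : n ≠ 0 := by
      rintro rfl
      omega
    have h6 := ge_14 hX n h3 (by omega)
    simp only [List.mem_cons, List.not_mem_nil, or_false] at hd
    have h7 : n = 16 := by omega
    subst h7
    exact n16 h3

/-- **The row COVER of `J₂`.** -/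
theorem coverAt (hX : Spor.IsoJ2 X) {D : Set ℕ} (hD : Deg 2 X D) : H529.S8.CoverAt.{u} 2 2 D X := by
  intro N _ _ V _ hV hc hp ⟨e⟩ i hi
  have hcd := Cfsg.Agent.NotCT.Orders.j2 hX
  have hfin : Finite X := Nat.finite_of_card_ne_zero (by rw [hcd]; norm_num)
  obtain ⟨-, hdeg⟩ := Cfsg.Agent.H242.S8.deg_two' (simple_of hX) (not_comm hX) (out_le hX) hD
  -- the bound for `i`
  have hk : Nat.card (ConjClasses X) ≤ 21 := by
    obtain ⟨f⟩ := iso_G hX
    have h1 : Nat.card (ConjClasses X) = Nat.card (ConjClasses Cfsg.Agent.SporadicA.J2Hundred.G) :=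
      Cfsg.Agent.H109.S8.classes_of_equiv f
    rw [h1]
    exact card_classes_le
  have hi2 : i ≤ 2 := by
    by_contra hcon
    have h1 : (2 : ℕ) ^ 6 ≤ 2 ^ (2 * i) := Nat.pow_le_pow_right (by norm_num) (by omega)
    omega
  obtain ⟨⟨g⟩⟩ : Nonempty (Spor.IsoJ2 X) := ⟨hX⟩
  have hns := fun d => small_not_mem hX hD (d := d)
  obtain ⟨χ, d, h1, h2, h3, h4⟩ := exists_small V hV hc hp (e.trans g)
  by_cases hex : i = 2 ∧ d = 6 ∧ 48 ∈ D
  · obtain ⟨rfl, -, h48⟩ := hex
    by_contra hno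
    push Not at hno
    have h48' : (48 : ℕ) ∈ charDegrees X := by
      rcases hdeg 48 h48 with h5 | ⟨n, h5, -, h6⟩
      · exact h5
      · exfalso
        have h7 : n = 24 := by omega
        subst h7
        have := mod_seven_X hX h5
        omega
    -- the degrees prime to 7
    have hlist : ∀ x ∈ charDegrees X, 7 ∣ x ∨ x = 1 ∨ x = 36 ∨ x = 48 ∨ x = 90 ∨ x = 160 ∨ x = 225 := by
      intro x hx
      rw [cd_eq hX] at hx h48'
      obtain ⟨ψ, hψ⟩ := h48'
      obtain ⟨η, rfl⟩ := hx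
      exact degs_of_48 hψ η
    refine column hX V hV hc hp e ?_
    intro ψ m hψ hψV hψm hm2 w hw hw7
    have h5 : m * 2 ^ 2 ∈ D ∨ 2 * (m * 2 ^ 2) ∈ D := by
      by_cases h6 : m * 2 ^ 2 ∈ D
      · exact Or.inl h6
      · exact Or.inr (hno ψ m hψ hψV hψm h6).1
    have h6 : 2 * m ∈ charDegrees X ∨ 4 * m ∈ charDegrees X ∨ 8 * m ∈ charDegrees X := by
      rcases h5 with h5 | h5
      · rcases hdeg _ h5 with h6 | ⟨n, h6, -, h7⟩
        · right; left
          have : m * 2 ^ 2 = 4 * m := by ring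
          rwa [this] at h6
        · left
          have : n = 2 * m := by omega
          rwa [this] at h6
      · rcases hdeg _ h5 with h6 | ⟨n, h6, -, h7⟩
        · right; right
          have : 2 * (m * 2 ^ 2) = 8 * m := by ring
          rwa [this] at h6
        · right; left
          have : n = 4 * m := by omega
          rwa [this] at h6
    have hw2 : -2 ≤ w ∧ w ≤ 2 := by constructor <;> nlinarith
    rcases h6 with h6 | h6 | h6
    · have h7 := hlist _ h6
      omega
    · have h7 := hlist _ h6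
      omega
    · have h7 := hlist _ h6
      omega
  · refine ⟨χ, d, h1, h2, h3, ?_, Or.inl ?_⟩
    · apply hns
      interval_cases i <;> rcases h4 with rfl | rfl | rfl <;> simp
    · by_cases h48 : i = 2 ∧ d = 6
      · obtain ⟨rfl, rfl⟩ := h48
        intro h
        exact hex ⟨rfl, rfl, h⟩
      · apply hns
        interval_cases i <;> rcases h4 with rfl | rfl | rfl <;> simp at h48 ⊢

end Final

end Cfsg.Agent.H858.S8.J2Cov
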