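import Cfsg.Agent.J2.Center
import Cfsg.Agent.Characters.Core
import Mathlib.Analysis.Quaternion

/-!
# The reflection representation of `2.J₂` over the complex numbers (helper858)

The group `twoJ2` acts `ℍ`-linearly on `ℍ³`, a complex vector space of dimension at most 6 by `ℂ ⊆ ℍ`; the central
involution acts by `-1`. `exists_small`: an irreducible character of degree at most 6, not trivial on the centre.
-/

set_option autoImplicit false

open Quaternion Cfsg Cfsg.Spor Cfsg.Agent.Characters.Core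

namespace Cfsg.Agent.H858.S8.TwoJ2

open Cfsg.Agent.J2.Center Cfsg.Agent.J2.Lattice Cfsg.Agent.J2.Ico Cfsg.Agent.J2.ZTau

/-- `ℍ³` as a complex vector space -/
def Hv : Type := Fin 3 → ℍ[ℝ]

noncomputable instance : AddCommGroup Hv := inferInstanceAs (AddCommGroup (Fin 3 → ℍ[ℝ]))

/-- left multiplication by complex numbers -/
noncomputable instance modHv : Module ℂ Hv := Module.compHom (Fin 3 → ℍ[ℝ]) (Quaternion.ofComplex.toRingHom : ℂ →+* ℍ[ℝ])

/-- the quaternion of two complex numbers -/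
noncomputable def pq (a b : ℂ) : ℍ[ℝ] := Quaternion.coeComplex a + Quaternion.coeComplex b * qJ

theorem pq_add (a b c d : ℂ) : pq (a + c) (b + d) = pq a b + pq c d := by
  unfold pq
  rw [Quaternion.coeComplex_add, Quaternion.coeComplex_add, add_mul]
  abel

theorem pq_mul (c a b : ℂ) : pq (c * a) (c * b) = Quaternion.coeComplex c * pq a b := by
  unfold pq
  rw [Quaternion.coeComplex_mul, Quaternion.coeComplex_mul, mul_add, mul_assoc]

theorem pq_surj (q : ℍ[ℝ]) : pq ⟨q.re, q.imI⟩ ⟨q.imJ, q.imK⟩ = q := by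
  have h1 : qJ.re = 0 := rfl
  have h2 : qJ.imI = 0 := rfl
  have h3 : qJ.imJ = 1 := rfl
  have h4 : qJ.imK = 0 := rfl
  unfold pq
  ext
  · rw [Quaternion.re_add, Quaternion.re_mul, h1, h2, h3, h4]
    simp
  · rw [Quaternion.imI_add, Quaternion.imI_mul, h1, h2, h3, h4]
    simp
  · rw [Quaternion.imJ_add, Quaternion.imJ_mul, h1, h2, h3, h4]
    simp
  · rw [Quaternion.imK_add, Quaternion.imK_mul, h1, h2, h3, h4]
    simp

/-- pairs of complex numbers give all quaternions -/
noncomputable def par : (Fin 3 → ℂ × ℂ) →ₗ[ℂ] Hv where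
  toFun u := fun t => pq (u t).1 (u t).2
  map_add' u v := funext fun t => pq_add (u t).1 (u t).2 (v t).1 (v t).2
  map_smul' c u := funext fun t => pq_mul c (u t).1 (u t).2

theorem par_surjective : Function.Surjective par := by
  intro x
  exact ⟨fun t => (⟨(x t).re, (x t).imI⟩, ⟨(x t).imJ, (x t).imK⟩), funext fun t => pq_surj (x t)⟩

instance : FiniteDimensional ℂ Hv := Module.Finite.of_surjective par par_surjective

theorem finrank_le : Module.finrank ℂ Hv ≤ 6 := by
  have h := LinearMap.finrank_le_finrank_of_surjective par_surjective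
  have h2 : Module.finrank ℂ (Fin 3 → ℂ × ℂ) = 6 := by
    rw [Module.finrank_pi_fintype]
    simp
  omega

instance : Nontrivial Hv := inferInstanceAs (Nontrivial (Fin 3 → ℍ[ℝ]))

theorem half_two (q : ℍ[ℝ]) : ((1 / 2 : ℝ) • q) * 2 = q := half_smul_mul_two q

/-- linear maps agreeing on the lattice are equal -/
theorem eq_of_lattice {L M : (Fin 3 → ℍ[ℝ]) →ₗ[ℍ[ℝ]] (Fin 3 → ℍ[ℝ])}
    (h : ∀ x : icoLeech, L (x : Fin 3 → ℍ[ℝ]) = M (x : Fin 3 → ℍ[ℝ])) : L = M := by
  have h1 := h (rt _ root1)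
  have h2 := h (rt _ root2)
  have h3 := h (rt _ root3)
  rw [rt_coe] at h1 h2 h3
  have hx : ∀ x : Fin 3 → ℍ[ℝ], x = ((1 / 2 : ℝ) • x 0) • toV ⟨two, 0, 0⟩ +
      ((1 / 2 : ℝ) • x 1) • toV ⟨0, two, 0⟩ + ((1 / 2 : ℝ) • x 2) • toV ⟨0, 0, two⟩ := by
    intro x
    funext t
    fin_cases t
    · simp only [Fin.zero_eta, Pi.add_apply, Pi.smul_apply, smul_eq_mul, toV_zero', toQ_two,
        map_zero, mul_zero, add_zero, half_smul_mul_two]
    · simp only [Fin.mk_one, Pi.add_apply, Pi.smul_apply, smul_eq_mul, toV_one', toQ_two,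
        map_zero, mul_zero, add_zero, zero_add, half_smul_mul_two]
    · simp only [Fin.reduceFinMk, Pi.add_apply, Pi.smul_apply, smul_eq_mul, toV_two', toQ_two,
        map_zero, mul_zero, zero_add, half_smul_mul_two]
  apply LinearMap.ext
  intro x
  rw [hx x, map_add, map_add, map_smul, map_smul, map_smul, h1, h2, h3, map_add, map_add, map_smul, map_smul, map_smul]

/-- the linear map of an element -/
noncomputable def lin (g : twoJ2) : (Fin 3 → ℍ[ℝ]) →ₗ[ℍ[ℝ]] (Fin 3 → ℍ[ℝ]) :=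
  ((exists_linear g g.2).choose : (Fin 3 → ℍ[ℝ]) →ₗ[ℍ[ℝ]] (Fin 3 → ℍ[ℝ]))

theorem lin_apply (g : twoJ2) (x : icoLeech) :
    lin g (x : Fin 3 → ℍ[ℝ]) = (((g : Equiv.Perm icoLeech) x : icoLeech) : Fin 3 → ℍ[ℝ]) :=
  ((exists_linear g g.2).choose_spec.1 x).symm

theorem lin_mul (g h : twoJ2) : lin (g * h) = lin g ∘ₗ lin h := by
  apply eq_of_lattice
  intro x
  rw [lin_apply, LinearMap.comp_apply, lin_apply, lin_apply]
  rfl

theorem lin_one : lin 1 = LinearMap.id := by
  apply eq_of_lattice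
  intro x
  rw [lin_apply]
  rfl

/-- **the representation** -/
noncomputable def rho : Representation ℂ twoJ2 Hv where
  toFun g :=
    { toFun := fun x => lin g x
      map_add' := fun x y => map_add (lin g) x y
      map_smul' := fun c x => (lin g).map_smul (Quaternion.coeComplex c) (x : Fin 3 → ℍ[ℝ]) }
  map_one' := by
    apply LinearMap.ext
    intro x
    show lin 1 x = x
    rw [lin_one]
    rfl
  map_mul' g h := by
    apply LinearMap.ext
    intro x
    show lin (g * h) x = lin g (lin h x)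
    rw [lin_mul]
    rfl

theorem rho_neg {z : twoJ2} (hz : ∀ x : icoLeech,
    (((z : Equiv.Perm icoLeech) x : icoLeech) : Fin 3 → ℍ[ℝ]) = -(x : Fin 3 → ℍ[ℝ])) : rho z = -1 := by
  have h1 : lin z = -LinearMap.id := by
    apply eq_of_lattice
    intro x
    rw [lin_apply, hz]
    rfl
  apply LinearMap.ext
  intro x
  show lin z x = -x
  rw [h1]
  rfl

/-- **A small character.** -/
theorem exists_small [Finite twoJ2] : ∃ z ∈ Subgroup.center twoJ2, ∃ χ : IrrCharacter twoJ2,
    (χ : twoJ2 → ℂ) z ≠ (χ : twoJ2 → ℂ) 1 ∧ ∃ d : ℕ, (χ : twoJ2 → ℂ) 1 = d ∧ d ≤ 6 := by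
  classical
  obtain ⟨z, hz, hneg⟩ := exists_neg_mem
  refine ⟨z, hz, ?_⟩
  have := finite_irr (G := twoJ2)
  let _ := Fintype.ofFinite (IrrCharacter twoJ2)
  obtain ⟨m, hm⟩ := exists_nat_comb (isCharacter_of_rep rho)
  have h1 : rho.character 1 = (Module.finrank ℂ Hv : ℂ) := Representation.char_one rho
  have h2 : rho.character z = -(Module.finrank ℂ Hv : ℂ) := by
    show LinearMap.trace ℂ Hv (rho z) = _
    rw [rho_neg hneg, map_neg, LinearMap.trace_one]
  have h0 : 0 < Module.finrank ℂ Hv := Module.finrank_pos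
  by_contra hcon
  push Not at hcon
  have h3 : ∀ χ : IrrCharacter twoJ2, m χ ≠ 0 → (χ : twoJ2 → ℂ) z = (χ : twoJ2 → ℂ) 1 := by
    intro χ hχ
    by_contra h4
    obtain ⟨d, hd0, hd⟩ := isIrr_apply_one χ.2
    have h5 := hcon χ h4 d hd
    choose e he using fun ψ : IrrCharacter twoJ2 => isIrr_apply_one ψ.2
    have h6 : (Module.finrank ℂ Hv : ℂ) = ((∑ ψ : IrrCharacter twoJ2, m ψ * e ψ : ℕ) : ℂ) := by
      rw [← h1, hm, Finset.sum_apply]
      push_cast
      refine Finset.sum_congr rfl fun ψ _ => ?_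
      rw [Pi.smul_apply, (he ψ).2, nsmul_eq_mul]
    have h7 : Module.finrank ℂ Hv = ∑ ψ : IrrCharacter twoJ2, m ψ * e ψ := by exact_mod_cast h6
    have h8 : m χ * e χ ≤ ∑ ψ : IrrCharacter twoJ2, m ψ * e ψ :=
      Finset.single_le_sum (f := fun ψ => m ψ * e ψ) (fun _ _ => Nat.zero_le _) (Finset.mem_univ χ)
    have h9 : e χ = d := by
      have := (he χ).2.symm.trans hd
      exact_mod_cast this
    have h10 : e χ ≤ m χ * e χ := Nat.le_mul_of_pos_left _ (Nat.pos_of_ne_zero hχ)
    have h11 := finrank_le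
    omega
  have h4 : rho.character z = rho.character 1 := by
    rw [hm, Finset.sum_apply, Finset.sum_apply]
    refine Finset.sum_congr rfl fun χ _ => ?_
    rw [Pi.smul_apply, Pi.smul_apply]
    rcases Nat.eq_zero_or_pos (m χ) with h5 | h5
    · rw [h5, zero_smul, zero_smul]
    · rw [h3 χ (by omega)]
  rw [h1, h2] at h4
  have h5 : ((Module.finrank ℂ Hv : ℕ) : ℂ) = 0 := by linear_combination (-1 / 2 : ℂ) * h4
  have h6 : Module.finrank ℂ Hv = 0 := by exact_mod_cast h5
  omega

end Cfsg.Agent.H858.S8.TwoJ2
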